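import Groth.Agent.LBDesc.DualRigid
import Groth.Agent.AbPrim.Dual
import Groth.Prelude.Def_AgPol

/-!
Base change of dual data.
-/

set_option autoImplicit false
set_option backward.isDefEq.respectTransparency false
set_option backward.isDefEq.respectTransparency.types false
set_option linter.style.haveILetI false
set_option linter.unusedSectionVars false
set_option maxHeartbeats 1000000

universe u

open CategoryTheory CategoryTheory.Limits MonoidalCategory CartesianMonoidalCategory MonObj AlgebraicGeometry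
open Groth.Agent.W7Cube (pull pull_pull pull_cls)

noncomputable section

namespace Groth.Agent.AgBC

attribute [local instance] W7Cube.law

variable {S S' : Scheme.{u}} (τ : S' ⟶ S) {X P : Over S}

/-- an object over the new base seen over the old one -/
abbrev dn (U : Over S') : Over S := Over.mk (U.hom ≫ τ)

/-- a morphism over the new base seen over the old one -/
abbrev dnHom {U U' : Over S'} (g : U' ⟶ U) : dn τ U' ⟶ dn τ U :=
  Over.homMk g.left (by simpa using congrArg (· ≫ τ) (Over.w g))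

theorem xtMap_inv {U U' : Over S'} (g : U' ⟶ U) :
    PicF.XTmap X.hom (dnHom τ g) ≫ (AgPol.bcXTIso τ X U).inv =
      (AgPol.bcXTIso τ X U').inv ≫ PicF.XTmap (Red.bc τ X).hom g := by
  rw [Iso.comp_inv_eq, Category.assoc, Iso.eq_inv_comp]
  refine pullback.hom_ext ?_ ?_ <;> simp [AgPol.bcXTIso, PicF.XTmap]

theorem inv_proj (U : Over S') :
    (AgPol.bcXTIso τ X U).inv ≫ PicF.XTproj (Red.bc τ X).hom U = PicF.XTproj X.hom (dn τ U) := by
  rw [Iso.inv_comp_eq]
  simp [AgPol.bcXTIso, PicF.XTproj]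

theorem hom_proj (U : Over S') :
    (AgPol.bcXTIso τ X U).hom ≫ PicF.XTproj X.hom (dn τ U) = PicF.XTproj (Red.bc τ X).hom U := by
  rw [← inv_proj τ U, Iso.hom_inv_id_assoc]

/-- algebraic triviality on geometric fibres pulls back along maps over the base -/
theorem algTrivialAt_pullback {T P₁ P₂ : Scheme.{u}} (p₁ : P₁ ⟶ T) (p₂ : P₂ ⟶ T) (m : P₁ ⟶ P₂) (hm : m ≫ p₂ = p₁)
    {L : P₂.Modules} {t : T} (h : AbDual.IsAlgTrivialAt p₂ L t) :
    AbDual.IsAlgTrivialAt p₁ ((Scheme.Modules.pullback m).obj L) t := fun Ω _ _ σ hσ => by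
  let φ : pullback p₁ σ ⟶ pullback p₂ σ :=
    pullback.lift (pullback.fst _ _ ≫ m) (pullback.snd _ _) (by rw [Category.assoc, hm, pullback.condition])
  letI : (pullback p₁ σ).Over (Spec (CommRingCat.of Ω)) := ⟨pullback.snd _ _⟩
  refine AbPrim.algEquiv_iso ?_ (AbPrim.algEquiv_pullback (pullback.snd p₂ σ) (pullback.snd p₁ σ) φ
    (pullback.lift_snd _ _ _) (h Ω σ hσ))
  exact (Scheme.Modules.pullbackComp φ _).app L ≪≫ (Scheme.Modules.pullbackCongr (pullback.lift_fst _ _ _)).app L ≪≫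
    ((Scheme.Modules.pullbackComp _ m).app L).symm

theorem picZero_down (U : Over S') {c : PicF.Cl (PicF.XT (Red.bc τ X).hom U)}
    (h : AbDual.IsPicZeroCl (Red.bc τ X).hom U c) :
    AbDual.IsPicZeroCl X.hom (dn τ U) (PicF.pullCl (AgPol.bcXTIso τ X U).inv c) := by
  obtain ⟨L, rfl, hL, ht⟩ := h
  exact ⟨_, rfl, PicLoc.isInvertible_pullback (X := PicF.XT X.hom (dn τ U)) (AgPol.bcXTIso τ X U).inv hL,
    fun t => algTrivialAt_pullback (P₁ := PicF.XT X.hom (dn τ U)) _ _ _ (inv_proj τ U) (ht t)⟩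

theorem picZero_up (U : Over S') {c : PicF.Cl (PicF.XT X.hom (dn τ U))}
    (h : AbDual.IsPicZeroCl X.hom (dn τ U) c) :
    AbDual.IsPicZeroCl (Red.bc τ X).hom U (PicF.pullCl (AgPol.bcXTIso τ X U).hom c) := by
  obtain ⟨L, rfl, hL, ht⟩ := h
  exact ⟨_, rfl, PicLoc.isInvertible_pullback (Y := PicF.XT X.hom (dn τ U)) (AgPol.bcXTIso τ X U).hom hL,
    fun t => algTrivialAt_pullback (P₂ := PicF.XT X.hom (dn τ U)) _ _ _ (hom_proj τ U) (ht t)⟩

theorem pullCl_hom_inv (U : Over S') (c : PicF.Cl (PicF.XT (Red.bc τ X).hom U)) :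
    PicF.pullCl (AgPol.bcXTIso τ X U).hom (PicF.pullCl (AgPol.bcXTIso τ X U).inv c) = c := by
  rw [← PicLoc.pullCl_comp, Iso.hom_inv_id, PicLoc.pullCl_id]

theorem pullCl_inv_hom (U : Over S') (c : PicF.Cl (PicF.XT X.hom (dn τ U))) :
    PicF.pullCl (AgPol.bcXTIso τ X U).inv (PicF.pullCl (AgPol.bcXTIso τ X U).hom c) = c := by
  rw [← PicLoc.pullCl_comp, Iso.inv_hom_id, PicLoc.pullCl_id]

/-- the reassociation between the two ways to restrict -/
abbrev reassoc {U : Over S'} {V : Scheme.{u}} (v : V ⟶ U.left) :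
    dn τ (AbDual.ovr U v) ⟶ AbDual.ovr (dn τ U) v :=
  Over.homMk (𝟙 V) (by simp)

theorem reassoc_ovrHom {U : Over S'} {V : Scheme.{u}} (v : V ⟶ U.left) :
    reassoc τ v ≫ AbDual.ovrHom (dn τ U) v = dnHom τ (AbDual.ovrHom U v) :=
  Over.OverMorphism.ext (Category.id_comp v)

theorem bcDual_fst (φ : AgPol.DualMap X P) (U : Over S') (c : PicF.Cl (PicF.XT (Red.bc τ X).hom U)) :
    (AgPol.bcDual τ X P φ U c).left ≫ pullback.fst P.hom τ =
      (φ (dn τ U) (PicF.pullCl (AgPol.bcXTIso τ X U).inv c)).left :=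
  pullback.lift_fst _ _ _

theorem eq_of_fst {U : Over S'} {a b : U ⟶ Red.bc τ P}
    (h : a.left ≫ pullback.fst P.hom τ = b.left ≫ pullback.fst P.hom τ) : a = b := by
  refine Over.OverMorphism.ext (pullback.hom_ext h ?_)
  exact (Over.w a).trans (Over.w b).symm

variable {φ : AgPol.DualMap X P}

/-- the relative `Pic⁰` representation changes base -/
theorem isRelPicZero_bcDual (h : AbDual.IsRelPicZeroK Scheme.fppfPrecoverage X.hom P φ) :
    AbDual.IsRelPicZeroK Scheme.fppfPrecoverage (Red.bc τ X).hom (Red.bc τ P) (AgPol.bcDual τ X P φ) where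
  natural := fun U U' g c hc => by
    refine eq_of_fst τ ?_
    rw [bcDual_fst, Over.comp_left, Category.assoc, bcDual_fst, ← PicLoc.pullCl_comp, ← xtMap_inv,
      PicLoc.pullCl_comp, h.natural (dn τ U) (dn τ U') (dnHom τ g) _ (picZero_down τ U hc)]
    rfl
  locallySurjective := fun U g => by
    let g' : dn τ U ⟶ P := Over.homMk (g.left ≫ pullback.fst P.hom τ) (by
      rw [Category.assoc, pullback.condition, ← Category.assoc]
      exact congrArg (· ≫ τ) (Over.w g))
    obtain ⟨R, hR, hRc⟩ := h.locallySurjective (dn τ U) g'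
    refine ⟨R, hR, fun {V} v hv => ?_⟩
    obtain ⟨c, hc, hφ⟩ := hRc v hv
    have hz : AbDual.IsPicZeroCl X.hom (dn τ (AbDual.ovr U v)) (PicF.pullCl (PicF.XTmap X.hom (reassoc τ v)) c) := by
      obtain ⟨L, rfl, hL, ht⟩ := hc
      exact LBDesc.picZero_XTmap X.hom (reassoc τ v) (c := PicGrp.cls L hL) ⟨L, rfl, hL, ht⟩
    refine ⟨_, picZero_up τ (AbDual.ovr U v) hz, eq_of_fst τ ?_⟩
    rw [bcDual_fst, pullCl_inv_hom, h.natural _ _ _ c hc, hφ, ← Category.assoc, reassoc_ovrHom]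
    simp [g']
  locallyInjective := fun U c c' hc hc' he => by
    have he' : φ (dn τ U) (PicF.pullCl (AgPol.bcXTIso τ X U).inv c) =
        φ (dn τ U) (PicF.pullCl (AgPol.bcXTIso τ X U).inv c') := by
      refine Over.OverMorphism.ext ?_
      rw [← bcDual_fst, ← bcDual_fst, he]
    obtain ⟨R, hR, hRc⟩ := h.locallyInjective _ _ _ (picZero_down τ U hc) (picZero_down τ U hc') he'
    refine ⟨R, hR, fun {V} v hv => ?_⟩
    have e := congrArg (fun d => PicF.pullCl (AgPol.bcXTIso τ X (AbDual.ovr U v)).hom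
      (PicF.pullCl (PicF.XTmap X.hom (reassoc τ v)) d)) (hRc v hv)
    have key : ∀ d : PicF.Cl (PicF.XT (Red.bc τ X).hom U),
        PicF.pullCl (AgPol.bcXTIso τ X (AbDual.ovr U v)).hom (PicF.pullCl (PicF.XTmap X.hom (reassoc τ v))
          (PicF.pullCl (PicF.XTmap X.hom (AbDual.ovrHom (dn τ U) v)) (PicF.pullCl (AgPol.bcXTIso τ X U).inv d))) =
          PicF.pullCl (PicF.XTmap (Red.bc τ X).hom (AbDual.ovrHom U v)) d := fun d => by
      rw [← PicLoc.pullCl_comp, ← PicLoc.pullCl_comp, ← PicLoc.pullCl_comp]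
      congr 1
      rw [← cancel_mono (AgPol.bcXTIso τ X U).hom]
      simp only [Category.assoc, Iso.inv_hom_id, Category.comp_id]
      refine pullback.hom_ext ?_ ?_ <;> simp [AgPol.bcXTIso, PicF.XTmap]
    simpa only [key] using e

/-- a point of the base change, seen below -/
def toDn {U : Over S'} (f : U ⟶ Red.bc τ P) : dn τ U ⟶ P :=
  ((Over.mapPullbackAdj τ).homEquiv U P).symm f

theorem toDn_left {U : Over S'} (f : U ⟶ Red.bc τ P) : (toDn τ f).left = f.left ≫ pullback.fst _ _ := by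
  rw [toDn, Adjunction.homEquiv_counit]
  simp [Over.mapPullbackAdj]

theorem toDn_mul [GrpObj P] {U : Over S'} (f g : U ⟶ Red.bc τ P) : toDn τ (f * g) = toDn τ f * toDn τ g := by
  apply ((Over.mapPullbackAdj τ).homEquiv U P).injective
  rw [toDn, Equiv.apply_symm_apply, Adjunction.homEquiv_unit, Functor.map_mul, MonObj.comp_mul]
  rw [← Adjunction.homEquiv_unit, ← Adjunction.homEquiv_unit, toDn, toDn]
  erw [Equiv.apply_symm_apply, Equiv.apply_symm_apply]

/-- the dual changes base -/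
theorem isDualAV_bcDual [GrpObj P] (h : AbDual.IsDualAV Scheme.fppfPrecoverage X P φ) :
    AbDual.IsDualAV Scheme.fppfPrecoverage (Red.bc τ X) (Red.bc τ P) (AgPol.bcDual τ X P φ) where
  relPic := isRelPicZero_bcDual τ h.relPic
  mul := fun U L M hL hM => by
    have hL' := picZero_down τ U hL
    have hM' := picZero_down τ U hM
    obtain ⟨L₀, hL₀, hLi, hLt⟩ := hL'
    obtain ⟨M₀, hM₀, hMi, hMt⟩ := hM'
    obtain ⟨L₁, hL₁, hL₁i, -⟩ := hL
    obtain ⟨M₁, hM₁, hM₁i, -⟩ := hM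
    have e := h.mul (dn τ U) L₀ M₀ ⟨L₀, rfl, hLi, hLt⟩ ⟨M₀, rfl, hMi, hMt⟩
    rw [hL₀, hM₀] at e
    have key : PicF.pullCl (AgPol.bcXTIso τ X U).inv (PicF.cl (CohB1.tensorMod L M)) =
        PicF.cl (CohB1.tensorMod L₀ M₀) := by
      have h1 : PicF.cl (CohB1.tensorMod L M) = PicF.cl (CohB1.tensorMod L₁ M₁) := by
        rw [← PicGrp.mulCl_cl, ← PicGrp.mulCl_cl, hL₁, hM₁]
      rw [h1, ← PicGrp.cls_mul_cls_val hL₁i hM₁i, ← PicGrp.cls_mul_cls_val hLi hMi]
      change (pull (AgPol.bcXTIso τ X U).inv (PicGrp.cls L₁ hL₁i * PicGrp.cls M₁ hM₁i)).1 = _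
      rw [map_mul, show pull (AgPol.bcXTIso τ X U).inv (PicGrp.cls L₁ hL₁i) = PicGrp.cls L₀ hLi from
          Subtype.ext ((congrArg (PicF.pullCl _) hL₁).trans hL₀.symm),
        show pull (AgPol.bcXTIso τ X U).inv (PicGrp.cls M₁ hM₁i) = PicGrp.cls M₀ hMi from
          Subtype.ext ((congrArg (PicF.pullCl _) hM₁).trans hM₀.symm)]
    refine eq_of_fst τ ?_
    rw [bcDual_fst, key, e, ← toDn_left, toDn_mul]
    refine congrArg (fun m : dn τ U ⟶ P => m.left) (congrArg₂ (· * ·) ?_ ?_) <;>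
      exact Over.OverMorphism.ext ((bcDual_fst τ φ U _).symm.trans (toDn_left τ _).symm)

end Groth.Agent.AgBC
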