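import Groth.Agent.AgBC.DualBC
import Groth.Agent.AgSymm.Basic

/-!
Base change of Poincaré classes.
-/

set_option autoImplicit false
set_option backward.isDefEq.respectTransparency false
set_option backward.isDefEq.respectTransparency.types false
set_option linter.style.haveILetI false
set_option linter.unusedSectionVars false
set_option maxHeartbeats 1000000
set_option synthInstance.maxHeartbeats 200000

universe u

open CategoryTheory CategoryTheory.Limits MonoidalCategory CartesianMonoidalCategory MonObj AlgebraicGeometry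
open Groth.Agent.W7Cube (pull pull_pull pull_cls)
open Groth.Agent.AbPrim (val pull_val)

noncomputable section

namespace Groth.Agent.AgBC

attribute [local instance] W7Cube.law

variable {S S' : Scheme.{u}} (τ : S' ⟶ S) {X P : Over S}

/-- the projection to the original -/
abbrev prD (X : Over S) : dn τ (Red.bc τ X) ⟶ X :=
  Over.homMk (pullback.fst X.hom τ) pullback.condition

theorem toDn_comp {U U' : Over S'} (a : U' ⟶ U) (f : U ⟶ Red.bc τ P) :
    toDn τ (a ≫ f) = dnHom τ a ≫ toDn τ f := by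
  apply Over.OverMorphism.ext
  rw [toDn_left, Over.comp_left, Over.comp_left, toDn_left, Category.assoc]
  rfl

theorem toDn_id : toDn τ (𝟙 (Red.bc τ X)) = prD τ X := by
  apply Over.OverMorphism.ext
  rw [toDn_left]
  simp

theorem toDn_one [GrpObj P] {U : Over S'} : toDn τ (1 : U ⟶ Red.bc τ P) = 1 := by
  have h := toDn_mul τ (1 : U ⟶ Red.bc τ P) 1
  rw [_root_.one_mul] at h
  exact mul_eq_left.1 h.symm

/-- the projection of a product after base change -/
def xtPr (X P : Over S) : ((Red.bc τ X) ⊗ (Red.bc τ P)).left ⟶ (X ⊗ P).left :=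
  (AgPol.bcXTIso τ X (Red.bc τ P)).hom ≫ PicF.XTmap X.hom (prD τ P)

theorem lift_xtPr {V : Over S'} (a : V ⟶ Red.bc τ X) (b : V ⟶ Red.bc τ P) :
    (lift a b).left ≫ xtPr τ X P = (lift (toDn τ a) (toDn τ b)).left := by
  refine pullback.hom_ext ?_ ?_ <;> simp [xtPr, AgPol.bcXTIso, PicF.XTmap, toDn_left]

theorem val_pull_xtPr {V : Over S'} (c : PicLoc.PicSet (X ⊗ P).left) (a : V ⟶ Red.bc τ X) (b : V ⟶ Red.bc τ P) :
    val (pull (xtPr τ X P) c) a b = val c (toDn τ a) (toDn τ b) := by
  refine (pull_pull _ _ _).trans ?_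
  rw [lift_xtPr]
  rfl

theorem phi_pull_xtPr {φ : AgPol.DualMap X P} {Y : Over S}
    (h : AbDual.IsRelPicZeroK Scheme.fppfPrecoverage X.hom P φ) (c : PicLoc.PicSet (X ⊗ Y).left)
    (hc : AbDual.IsPicZeroCl X.hom Y c.1) :
    AgPol.bcDual τ X P φ (Red.bc τ Y) (pull (xtPr τ X Y) c).1 = (Over.pullback τ).map (φ Y c.1) := by
  refine eq_of_fst τ ?_
  rw [bcDual_fst]
  change (φ _ (PicF.pullCl _ (PicF.pullCl (xtPr τ X Y) c.1))).left = _
  rw [xtPr, PicLoc.pullCl_comp, pullCl_inv_hom, h.natural _ _ (prD τ Y) _ hc]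
  simp [Over.pullback]

theorem picZero_pull_xtPr {Y : Over S} (c : PicLoc.PicSet (X ⊗ Y).left) (hc : AbDual.IsPicZeroCl X.hom Y c.1) :
    AbDual.IsPicZeroCl (Red.bc τ X).hom (Red.bc τ Y) (pull (xtPr τ X Y) c).1 := by
  change AbDual.IsPicZeroCl (Red.bc τ X).hom (Red.bc τ Y) (PicF.pullCl (xtPr τ X Y) c.1)
  rw [xtPr, PicLoc.pullCl_comp]
  exact picZero_up τ (Red.bc τ Y) (LBDesc.picZero_XTmap X.hom (prD τ Y) hc)

variable [GrpObj X] [GrpObj P] {φ : AgPol.DualMap X P}

/-- a Poincaré class changes base -/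
def poincareBC (h : AbDual.IsDualAV Scheme.fppfPrecoverage X P φ) (Q : AgSymm.Poincare φ) :
    AgSymm.Poincare (AgPol.bcDual τ X P φ) where
  x := pull (xtPr τ X P) Q.x
  picZero := picZero_pull_xtPr τ Q.x Q.picZero
  phi := by rw [phi_pull_xtPr τ h.relPic Q.x Q.picZero, Q.phi, CategoryTheory.Functor.map_id]
  rig := by
    rw [val_pull_xtPr, toDn_one, Q.val_one_left]

end Groth.Agent.AgBC
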